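import Groth.Prelude.Def_DerCA
import Groth.Agent.Lib.DMod.Homology
import Mathlib.RingTheory.Ideal.Operations
import Mathlib.Algebra.Module.LocalizedModule.Basic

/-!
# Elementwise cohomology of the mapping cocone of a localisation map
-/

universe u

open CategoryTheory CategoryTheory.Limits CochainComplex

noncomputable section

namespace Groth.Agent.ExtCechLib

variable {R : Type u} [CommRing R] (K : DRing.Cx R)

/-- The differential. -/
abbrev dd (i j : ℤ) : K.X i →ₗ[R] K.X j := (K.d i j).hom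

/-- Cocycles. -/
def Cy (j : ℤ) : Submodule R (K.X j) := LinearMap.ker (dd K j (j + 1))

/-- Coboundaries. -/
def Bd (j : ℤ) : Submodule R (K.X j) := LinearMap.range (dd K (j - 1) j)

theorem mem_Cy {j k : ℤ} (hk : j + 1 = k) {x : K.X j} : x ∈ Cy K j ↔ dd K j k x = 0 := by
  subst hk; exact Iff.rfl

theorem mem_Bd {i j : ℤ} (hi : i + 1 = j) {x : K.X j} : x ∈ Bd K j ↔ ∃ y, dd K i j y = x := by
  obtain rfl : i = j - 1 := by omega
  exact Iff.rfl

theorem dd_dd (i j k : ℤ) (x : K.X i) : dd K j k (dd K i j x) = 0 :=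
  LinearMap.congr_fun (congrArg ModuleCat.Hom.hom (K.d_comp_d i j k)) x

theorem Bd_le_Cy (j : ℤ) : Bd K j ≤ Cy K j := by
  rintro _ ⟨y, rfl⟩
  exact dd_dd K _ _ _ y

/-- The scalars pushing a cochain into the coboundaries. -/
def annBd {j : ℤ} (x : K.X j) : Ideal R := (Bd K j).comap (LinearMap.toSpanSingleton R _ x)

theorem mem_annBd {j : ℤ} {x : K.X j} {s : R} : s ∈ annBd K x ↔ s • x ∈ Bd K j := Iff.rfl

theorem isZero_homology_iff (q : ℤ) : IsZero (K.homology q) ↔ Cy K q ≤ Bd K q := by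
  rw [DMod.isZero_iff_subsingleton,
    DMod.subsingleton_homology_iff (i := q - 1) (k := q + 1) K (by simp) (by simp)]
  exact Iff.rfl

theorem exists_smul_eq_zero_iff (q : ℤ) (s : R) :
    (∀ x : K.homology q, ∃ n : ℕ, s ^ n • x = 0) ↔ ∀ x ∈ Cy K q, s ∈ (annBd K x).radical := by
  have key : ∀ (z : K.cycles q) (n : ℕ), s ^ n • K.homologyπ q z = 0 ↔ s ^ n • K.iCycles q z ∈ Bd K q := fun z n => by
    have h := DMod.homologyπ_eq_zero_iff (K := K) (i := q - 1) (by simp) (s ^ n • z)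
    rw [map_smul, map_smul] at h
    exact h
  constructor
  · intro h x hx
    obtain ⟨z, rfl⟩ := DMod.exists_cycle (K := K) (k := q + 1) (by simp) x hx
    exact (h (K.homologyπ q z)).imp fun n hn => (key z n).1 hn
  · intro h η
    obtain ⟨z, rfl⟩ := DMod.homologyπ_surjective K q η
    exact (h _ (DMod.d_iCycles q (q + 1) z)).imp fun n hn => (key z n).2 hn

section Cone

variable {K} {L : DRing.Cx R} (φ : K ⟶ L)

/-- The first coordinate on the cone. -/
def cA (m m' : ℤ) (h : m + 1 = m') : (mappingCone φ).X m →ₗ[R] K.X m' :=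
  ((mappingCone.fst φ).1.v m m' h).hom

/-- The second coordinate on the cone. -/
def cB (m : ℤ) : (mappingCone φ).X m →ₗ[R] L.X m := ((mappingCone.snd φ).v m m (add_zero m)).hom

/-- An element of the cone with given coordinates. -/
def cMk (m m' : ℤ) (h : m + 1 = m') (a : K.X m') (b : L.X m) : (mappingCone φ).X m :=
  ((mappingCone.inl φ).v m' m (by omega)).hom a + ((mappingCone.inr φ).f m).hom b

theorem cA_cMk (m m' : ℤ) (h : m + 1 = m') (a : K.X m') (b : L.X m) : cA φ m m' h (cMk φ m m' h a b) = a := by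
  rw [cA, cMk, map_add, ← LinearMap.comp_apply, ← LinearMap.comp_apply, ← ModuleCat.hom_comp,
    ← ModuleCat.hom_comp, mappingCone.inl_v_fst_v, mappingCone.inr_f_fst_v]
  simp

theorem cB_cMk (m m' : ℤ) (h : m + 1 = m') (a : K.X m') (b : L.X m) : cB φ m (cMk φ m m' h a b) = b := by
  rw [cB, cMk, map_add, ← LinearMap.comp_apply, ← LinearMap.comp_apply, ← ModuleCat.hom_comp,
    ← ModuleCat.hom_comp, mappingCone.inl_v_snd_v, mappingCone.inr_f_snd_v]
  simp

theorem cone_ext {m m' : ℤ} (h : m + 1 = m') {z z' : (mappingCone φ).X m}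
    (h1 : cA φ m m' h z = cA φ m m' h z') (h2 : cB φ m z = cB φ m z') : z = z' := by
  have key : ∀ z : (mappingCone φ).X m, cMk φ m m' h (cA φ m m' h z) (cB φ m z) = z := fun z =>
    LinearMap.congr_fun (congrArg ModuleCat.Hom.hom (mappingCone.id_X φ m m' h)) z
  rw [← key z, ← key z', h1, h2]

theorem cA_d (i j k : ℤ) (hij : i + 1 = j) (hjk : j + 1 = k) (z : (mappingCone φ).X i) :
    cA φ j k hjk (dd (mappingCone φ) i j z) = -dd K j k (cA φ i j hij z) := by
  have := LinearMap.congr_fun (congrArg ModuleCat.Hom.hom (mappingCone.d_fst_v φ i j k hij hjk)) z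
  simpa [cA] using this

theorem cB_d (i j : ℤ) (hij : i + 1 = j) (z : (mappingCone φ).X i) :
    cB φ j (dd (mappingCone φ) i j z) = (φ.f j).hom (cA φ i j hij z) + dd L i j (cB φ i z) := by
  have := LinearMap.congr_fun (congrArg ModuleCat.Hom.hom (mappingCone.d_snd_v φ i j hij)) z
  simpa [cA, cB] using this

theorem mem_Cy_cone {m m' m'' : ℤ} (h : m + 1 = m') (h' : m' + 1 = m'') {z : (mappingCone φ).X m} :
    z ∈ Cy (mappingCone φ) m ↔
      dd K m' m'' (cA φ m m' h z) = 0 ∧ (φ.f m').hom (cA φ m m' h z) + dd L m m' (cB φ m z) = 0 := by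
  rw [mem_Cy _ h]
  constructor
  · intro hz
    exact ⟨neg_eq_zero.1 (by rw [← cA_d φ m m' m'' h h', hz, map_zero]), by rw [← cB_d φ m m' h, hz, map_zero]⟩
  · rintro ⟨h1, h2⟩
    refine cone_ext φ h' ?_ ?_
    · rw [cA_d φ m m' m'' h h', h1, neg_zero, map_zero]
    · rw [cB_d φ m m' h, h2, map_zero]

/-- A cocycle of the cone whose classes vanish on both sides is a coboundary. -/
theorem mem_Bd_cone {i m m' : ℤ} (hi : i + 1 = m) (h : m + 1 = m') {z : (mappingCone φ).X m} (a' : K.X m)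
    (ha : dd K m m' a' = cA φ m m' h z) (c : K.X m) (hc : dd K m m' c = 0) (e : L.X i)
    (he : cB φ m z + (φ.f m).hom a' = (φ.f m).hom c + dd L i m e) : z ∈ Bd (mappingCone φ) m := by
  refine (mem_Bd _ hi).2 ⟨cMk φ i m hi (c - a') e, cone_ext φ h ?_ ?_⟩
  · rw [cA_d φ i m m' hi h, cA_cMk, map_sub, hc, ha, zero_sub, neg_neg]
  · rw [cB_d φ i m hi, cA_cMk, cB_cMk, map_sub, sub_add_eq_add_sub, ← he]
    abel

end Cone

section Cocone

variable {L : DRing.Cx R} (φ : K ⟶ L)

theorem Cy_cocone (q : ℤ) : Cy (mappingCocone φ) q = Cy (mappingCone φ) (q + -1) := by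
  ext x
  refine Iff.trans ?_ (mem_Cy (mappingCone φ) (show q + -1 + 1 = q + 1 + -1 by omega)).symm
  change ((Int.negOnePow (-1)) • (mappingCone φ).d (q + -1) (q + 1 + -1)).hom x = 0 ↔ _
  rw [Int.negOnePow_neg, Int.negOnePow_one]
  simp

theorem Bd_cocone (q : ℤ) : Bd (mappingCocone φ) q = Bd (mappingCone φ) (q + -1) := by
  ext x
  refine Iff.trans ?_ (mem_Bd (mappingCone φ) (show q - 1 + -1 + 1 = q + -1 by omega)).symm
  change (∃ y, ((Int.negOnePow (-1)) • (mappingCone φ).d (q - 1 + -1) (q + -1)).hom y = x) ↔ _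
  rw [Int.negOnePow_neg, Int.negOnePow_one]
  exact ⟨fun ⟨y, hy⟩ => ⟨-y, by simpa using hy⟩, fun ⟨y, hy⟩ => ⟨-y, by simpa using hy⟩⟩

end Cocone

end Groth.Agent.ExtCechLib
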