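import Groth.Agent.Lib.ExtCech.Main
import Groth.Agent.Lib.IdealTransform.Univ

/-!
# One-cocycles of the extended Čech complex and the ideal transform
-/

universe u

open CategoryTheory CategoryTheory.Limits CochainComplex

noncomputable section

namespace Groth.Agent.ExtCechLib

variable {R : Type u} [CommRing R] (M : ModuleCat.{u} R)

theorem cA_d0 (g : R) (fs : List R) (h : (1 : ℤ) + -1 + 1 = 1) (m : M) :
    cA (φg g (C M fs)) (1 + -1) 1 h (dd (C M (g :: fs)) 0 1 (e0 M (g :: fs) m)) =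
      dd (C M fs) 0 1 (e0 M fs m) := by
  set φ := φg g (C M fs)
  have hd : dd (C M (g :: fs)) 0 1 (e0 M (g :: fs) m) =
      -dd (mappingCone φ) (0 + -1) (1 + -1) (e0 M (g :: fs) m) := by
    change ((Int.negOnePow (-1)) • (mappingCone φ).d (0 + -1) (1 + -1)).hom _ = _
    rw [Int.negOnePow_neg, Int.negOnePow_one]
    simp
  refine (congrArg (cA φ (1 + -1) 1 h) hd).trans ((map_neg _ _).trans ?_)
  rw [cA_d φ (0 + -1) (1 + -1) 1 (by omega) h, neg_neg]
  exact congrArg (dd (C M fs) 0 1) (cA_e0 M g fs (by omega) m)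

theorem cB_d0 (g : R) (fs : List R) (m : M) :
    cB (φg g (C M fs)) (1 + -1) (dd (C M (g :: fs)) 0 1 (e0 M (g :: fs) m)) =
      -ι g (C M fs) (1 + -1) (e0 M fs m) := by
  set φ := φg g (C M fs)
  have hd : dd (C M (g :: fs)) 0 1 (e0 M (g :: fs) m) =
      -dd (mappingCone φ) (0 + -1) (1 + -1) (e0 M (g :: fs) m) := by
    change ((Int.negOnePow (-1)) • (mappingCone φ).d (0 + -1) (1 + -1)).hom _ = _
    rw [Int.negOnePow_neg, Int.negOnePow_one]
    simp
  refine (congrArg (cB φ (1 + -1)) hd).trans ((map_neg _ _).trans ?_)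
  rw [cB_d φ (0 + -1) (1 + -1) (by omega), loc_eq_zero M g fs (by omega) (cB φ (0 + -1) _), map_zero, add_zero]
  exact congrArg Neg.neg (congrArg (ι g (C M fs) _) (cA_e0 M g fs (by omega) m))

/-- Degree one has no torsion. -/
theorem eq_zero_of_torsion : ∀ (fs : List R) (x : (C M fs).X 1), (∀ f ∈ fs, ∃ n : ℕ, f ^ n • x = 0) → x = 0
  | [], x, _ => X_range M [] 1 (Or.inr (by simp)) x
  | g :: fs, x, hx => by
    set φ := φg g (C M fs)
    refine cone_ext φ (show (1 : ℤ) + -1 + 1 = 1 by omega) ((eq_zero_of_torsion fs _ fun f hf => ?_).trans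
      (map_zero _).symm) (Eq.trans ?_ (map_zero _).symm)
    · obtain ⟨n, hn⟩ := hx f (List.mem_cons_of_mem g hf)
      exact ⟨n, (map_smul (cA φ (1 + -1) 1 (by omega)) (f ^ n) x).symm.trans ((congrArg _ hn).trans (map_zero _))⟩
    · obtain ⟨n, hn⟩ := hx g List.mem_cons_self
      exact (g_bijective g (C M fs) _ n).1 (((map_smul (cB φ (1 + -1)) (g ^ n) x).symm.trans
        ((congrArg _ hn).trans (map_zero _))).trans (smul_zero _).symm)

/-- Cocycles lifting linear forms on a power of the ideal. -/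
theorem exists_lift (J : Ideal R) (n : ℕ) (ψ : ↥(J ^ n) →ₗ[R] M) : ∀ (fs : List R), (∀ f ∈ fs, f ∈ J) →
    ∃ p ∈ Cy (C M fs) 1, ∀ a : ↥(J ^ n), (a : R) • p = dd (C M fs) 0 1 (e0 M fs (ψ a))
  | [], _ => ⟨0, Submodule.zero_mem _, fun a => by
      rw [smul_zero]; exact (X_range M [] 1 (Or.inr (by simp)) _).symm⟩
  | g :: fs, hJ => by
    obtain ⟨p, hp, hp'⟩ := exists_lift J n ψ fs fun f hf => hJ f (List.mem_cons_of_mem g hf)
    set φ := φg g (C M fs)
    have hg : g ^ n ∈ J ^ n := Ideal.pow_mem_pow (hJ g List.mem_cons_self) n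
    have h : (1 : ℤ) + -1 + 1 = 1 := by omega
    obtain ⟨b, hb⟩ := (g_bijective g (C M fs) (1 + -1) n).2 (-ι g (C M fs) (1 + -1) (e0 M fs (ψ ⟨g ^ n, hg⟩)))
    simp only at hb
    refine ⟨cMk φ (1 + -1) 1 h p b, (SetLike.ext_iff.1 (Cy_cocone _ φ 1) _).2 ((mem_Cy_cone φ h rfl).2 ?_),
      fun a => cone_ext φ h ?_ ?_⟩
    · rw [cA_cMk, cB_cMk]
      refine ⟨hp, (g_bijective g (C M fs) 1 n).1 ?_⟩
      simp only
      rw [smul_add, ← map_smul, ← map_smul, hb, smul_zero, map_neg, ← sub_eq_add_neg]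
      refine sub_eq_zero.2 ?_
      change ι g (C M fs) 1 (g ^ n • p) = _
      rw [show g ^ n • p = _ from hp' ⟨g ^ n, hg⟩, ι_dd]
      rfl
    · refine (map_smul (cA φ (1 + -1) 1 h) (a : R) _).trans ?_
      rw [cA_cMk, hp' a]
      exact (cA_d0 M g fs h (ψ a)).symm
    · refine (map_smul (cB φ (1 + -1)) (a : R) _).trans ?_
      rw [cB_cMk]
      refine Eq.trans ((g_bijective g (C M fs) (1 + -1) n).1 ?_) (cB_d0 M g fs (ψ a)).symm
      simp only
      rw [smul_comm, hb, smul_neg, smul_neg]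
      have key : (a : R) • ψ ⟨g ^ n, hg⟩ = g ^ n • ψ a := by
        rw [← map_smul, ← map_smul]
        exact congrArg ψ (Subtype.ext (mul_comm _ _))
      rw [← map_smul, ← map_smul, key, map_smul, map_smul]

variable [IsNoetherianRing R] (fs : List R)

/-- The differential out of degree zero, into the one-cocycles. -/
def toCy : M →ₗ[R] Cy (C M fs) 1 :=
  ((dd (C M fs) 0 1) ∘ₗ e0 M fs).codRestrict _ fun m => dd_dd _ 0 1 _ (e0 M fs m)

/-- One-cocycles are the ideal transform. -/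
theorem nonempty_Cy_equiv_DT :
    Nonempty (Cy (C M fs) 1 ≃ₗ[R] LocCoh.DT (Ideal.span {x : R | x ∈ fs}) M) := by
  set J := Ideal.span {x : R | x ∈ fs}
  have hker : LinearMap.ker (toCy M fs) ≤ DRing.torsionSub J M := fun m hm =>
    (mem_torsionSub_span_iff M fs m).2 ((mem_Cy_zero_iff M fs m).1
      ((mem_Cy _ (zero_add (1 : ℤ))).2 (congrArg Subtype.val hm)))
  have hcoker : LocCoh.IsPowerTorsion J (Cy (C M fs) 1 ⧸ LinearMap.range (toCy M fs)) := by
    intro z
    obtain ⟨x, rfl⟩ := Submodule.Quotient.mk_surjective _ z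
    have hle : J ≤ (annBd (C M fs) x.1).radical := Ideal.span_le.2 fun f hf => radical_all M fs 1 x.1 x.2 f hf
    obtain ⟨n, hn⟩ := Ideal.exists_pow_le_of_le_radical_of_fg hle (IsNoetherian.noetherian J)
    refine ⟨n, fun a ha => ?_⟩
    rw [← Submodule.Quotient.mk_smul, Submodule.Quotient.mk_eq_zero]
    obtain ⟨y, hy⟩ := (mem_Bd _ (zero_add (1 : ℤ))).1 ((mem_annBd _).1 (hn ha))
    obtain ⟨m, rfl⟩ := (e0_bijective M fs).2 y
    exact ⟨m, Subtype.ext hy⟩
  have htf : DRing.torsionSub J (Cy (C M fs) 1) = ⊥ := by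
    rw [eq_bot_iff]
    rintro x ⟨n, hn⟩
    refine (Submodule.mem_bot R).2 (Subtype.ext (eq_zero_of_torsion M fs x.1 fun f hf => ⟨n, ?_⟩))
    exact congrArg Subtype.val (hn _ (Ideal.pow_mem_pow (Ideal.subset_span (s := {x : R | x ∈ fs}) hf) n))
  obtain ⟨θ, hθ, -⟩ := DTLib.existsUnique_factor (toCy M fs) hker hcoker (LinearMap.id : M →ₗ[R] M)
  refine ⟨LinearEquiv.ofBijective θ (DTLib.bijective_of_factor (toCy M fs) hcoker ?_ htf θ
    (hθ.trans (LinearMap.comp_id _)))⟩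
  intro n ψ
  obtain ⟨p, hp, hp'⟩ := exists_lift M J n ψ fs fun f hf => Ideal.subset_span hf
  exact ⟨⟨p, hp⟩, n, fun a _ => Subtype.ext (hp' a)⟩

end Groth.Agent.ExtCechLib
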