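import Groth.Agent.Lib.ExtCech.Loc
import Groth.Prelude.Def_DRing3
import Mathlib.RingTheory.Noetherian.Nilpotent
import Mathlib.RingTheory.Finiteness.Basic

/-!
# The extended Čech complex: range, torsion, acyclicity, degree zero
-/

universe u

open CategoryTheory CategoryTheory.Limits CochainComplex

noncomputable section

namespace Groth.Agent.ExtCechLib

variable {R : Type u} [CommRing R] (M : ModuleCat.{u} R)

/-- Shorthand for the complex. -/
abbrev C (fs : List R) : DRing.Cx R := DerCA.extCech M fs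

theorem X_range : ∀ (fs : List R) (q : ℤ), q < 0 ∨ (fs.length : ℤ) < q → ∀ x : (C M fs).X q, x = 0
  | [], q, hq, x => by
    have : IsZero ((C M ([] : List R)).X q) :=
      HomologicalComplex.isZero_single_obj_X _ _ _ _ (by simp only [List.length_nil, Nat.cast_zero] at hq; omega)
    exact (ModuleCat.subsingleton_of_isZero this).elim _ _
  | g :: fs, q, hq, (z : (mappingCone (φg g (C M fs))).X (q + -1)) => by
    simp only [List.length_cons, Nat.cast_succ] at hq
    refine cone_ext (φg g (C M fs)) (show q + -1 + 1 = q by omega)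
      ((X_range fs q (by omega) _).trans (map_zero _).symm) (Eq.trans ?_ (map_zero _).symm)
    · obtain ⟨n, y, hy⟩ := exists_num g (C M fs) (cB (φg g (C M fs)) (q + -1) z)
      rw [X_range fs (q + -1) (by omega) y, map_zero] at hy
      exact (g_bijective g (C M fs) (q + -1) n).1 (hy.trans (smul_zero (g ^ n)).symm)

theorem isZero_extCechH_range (fs : List R) (q : ℤ) (hq : q < 0 ∨ (fs.length : ℤ) < q) :
    IsZero (DerCA.extCechH fs M q) := by
  rw [DerCA.extCechH, isZero_homology_iff]
  intro x _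
  rw [X_range M fs q hq x]
  exact Submodule.zero_mem _

theorem radical_all : ∀ (fs : List R) (q : ℤ), ∀ x ∈ Cy (C M fs) q, ∀ f ∈ fs, f ∈ (annBd (C M fs) x).radical
  | [], _, _, _, _, hf => absurd hf List.not_mem_nil
  | g :: fs, q, (z : (mappingCone (φg g (C M fs))).X (q + -1)), hz, f, hf => by
    have hz' : z ∈ Cy (mappingCone (φg g (C M fs))) (q + -1) := (SetLike.ext_iff.1 (Cy_cocone _ (φg g (C M fs)) q) z).1 hz
    obtain ⟨n, hn⟩ : f ∈ (annBd (mappingCone (φg g (C M fs))) z).radical := by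
      refine radical_cocone f q ?_ z hz'
      rcases List.mem_cons.1 hf with rfl | hf
      · exact Or.inl rfl
      · exact Or.inr ⟨fun x hx => radical_all fs q x hx f hf, fun x hx =>
          radical_loc (i := q + -1 - 1) (k := q + -1 + 1) (by omega) rfl
            (fun y hy => radical_all fs _ y hy f hf) x hx⟩
    exact ⟨n, (mem_annBd _).2 ((SetLike.ext_iff.1 (Bd_cocone _ (φg g (C M fs)) q) _).2 ((mem_annBd _).1 hn))⟩

theorem exists_pow_smul_extCechH (fs : List R) (q : ℤ) (x : DerCA.extCechH fs M q) :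
    ∃ n : ℕ, 1 ≤ n ∧ ∀ f ∈ fs, f ^ n • x = 0 := by
  classical
  choose N hN using fun f : {f // f ∈ fs} =>
    (exists_smul_eq_zero_iff (C M fs) q f.1).2 (fun y hy => radical_all M fs q y hy f.1 f.2) x
  let T := (fs.attach.toFinset.sup N) + 1
  refine ⟨T, Nat.le_add_left 1 _, fun f hf => ?_⟩
  have : N ⟨f, hf⟩ ≤ T := le_trans (Finset.le_sup (by simp)) (Nat.le_succ _)
  rw [← Nat.sub_add_cancel this, pow_add, mul_smul, (show f ^ N ⟨f, hf⟩ • x = 0 from hN ⟨f, hf⟩), smul_zero]

theorem smul_bijective_X {f : R} (hf : Function.Bijective fun m : M => f • m) :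
    ∀ (fs : List R) (q : ℤ), Function.Bijective fun x : (C M fs).X q => f • x
  | [], q => by
    by_cases hq : q = 0
    · subst hq
      let e := (HomologicalComplex.singleObjXSelf (ComplexShape.up ℤ) 0 M).toLinearEquiv
      refine ⟨fun x y eq => e.injective (hf.1 ?_), fun y => ?_⟩
      · exact (map_smul e f x).symm.trans ((congrArg e eq).trans (map_smul e f y))
      · obtain ⟨m, hm⟩ := hf.2 (e y)
        refine ⟨e.symm m, e.injective ?_⟩
        exact (map_smul e f _).trans ((congrArg (f • ·) (e.apply_symm_apply m)).trans hm)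
    · have : IsZero ((C M ([] : List R)).X q) := HomologicalComplex.isZero_single_obj_X _ _ _ _ hq
      have := ModuleCat.subsingleton_of_isZero this
      exact ⟨fun a b _ => Subsingleton.elim a b, fun b => ⟨b, Subsingleton.elim _ _⟩⟩
  | g :: fs, q => by
    change Function.Bijective fun z : (mappingCone (φg g (C M fs))).X (q + -1) => f • z
    set φ := φg g (C M fs)
    have h : q + -1 + 1 = q := by omega
    have h1 := smul_bijective_X hf fs q
    have h0 := smul_bijective_X hf fs (q + -1)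
    refine ⟨fun z z' e => cone_ext φ h (h1.1 ?_) ?_, fun z => ?_⟩
    · simp only
      rw [← map_smul, ← map_smul]; exact congrArg _ e
    · obtain ⟨n, y, hy⟩ := exists_num g (C M fs) (cB φ _ z - cB φ _ z')
      have hz : f • (cB φ _ z - cB φ _ z') = 0 := by
        rw [smul_sub, ← map_smul, ← map_smul, show f • z = f • z' from e, sub_self]
      have : ι g (C M fs) _ (f • y) = 0 := by rw [map_smul, ← hy, smul_comm, hz, smul_zero]
      obtain ⟨m, hm⟩ := (ι_eq_zero_iff g _).1 this
      have hy0 : g ^ m • y = 0 := h0.1 (by simp only; rw [smul_zero, smul_comm]; exact hm)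
      refine sub_eq_zero.1 ((g_bijective g (C M fs) _ (m + n)).1 ?_)
      simp only
      rw [smul_zero, pow_add, mul_smul, hy, ← map_smul, hy0, map_zero]
    · obtain ⟨a, ha⟩ := h1.2 (cA φ _ _ h z)
      obtain ⟨n, y, hy⟩ := exists_num g (C M fs) (cB φ _ z)
      obtain ⟨y', hy'⟩ := h0.2 y
      obtain ⟨b, hb⟩ := (g_bijective g (C M fs) _ n).2 (ι g _ _ y')
      refine ⟨cMk φ _ _ h a b, cone_ext φ h ?_ ?_⟩
      · rw [map_smul, cA_cMk]; exact ha
      · rw [map_smul, cB_cMk]
        apply (g_bijective g (C M fs) _ n).1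
        simp only at hb hy' ⊢
        rw [smul_comm, hb, ← map_smul, hy', hy]

theorem acyclic_of_mem_span {f : R} (hf : Function.Bijective fun m : M => f • m) :
    ∀ (fs : List R), f ∈ Ideal.span {a : R | a ∈ fs} → ∀ q, Cy (C M fs) q ≤ Bd (C M fs) q := by
  intro fs
  induction fs generalizing f with
  | nil =>
    intro hmem q x _
    have h0 : f = 0 := by simpa using hmem
    have := (smul_bijective_X M hf [] q).1 (a₁ := x) (a₂ := 0) (by simp [h0])
    rw [this]; exact Submodule.zero_mem _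
  | cons g fs ih =>
    intro hmem q z hz
    set φ := φg g (C M fs)
    have hset : {a : R | a ∈ g :: fs} = insert g {a : R | a ∈ fs} := by ext; simp
    rw [hset, Ideal.mem_span_insert] at hmem
    obtain ⟨a, f', hf', hff⟩ := hmem
    have hrad : ∀ {j : ℤ} {x : (C M fs).X j}, x ∈ Cy _ j → f' ∈ (annBd (C M fs) x).radical := fun {j x} hx =>
      (Ideal.span_le.2 (fun s hs => radical_all M fs j x hx s hs)) hf'
    have hbij : ∀ (n : ℕ) (j : ℤ), Function.Bijective fun x : (C M fs).X j => f ^ n • x := fun n j => by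
      induction n with
      | zero => simp only [pow_zero, one_smul]; exact Function.bijective_id
      | succ n ihn =>
        have := (smul_bijective_X M hf fs j).comp ihn
        convert this using 1
        funext x
        simp [pow_succ', mul_smul]
    have hcancel : ∀ (n : ℕ) {j : ℤ} {x : (C M fs).X j}, f ^ n • x ∈ Bd (C M fs) j → x ∈ Bd (C M fs) j := by
      intro n j x hx
      obtain ⟨w, hw⟩ := hx
      obtain ⟨v, hv⟩ := (hbij n (j - 1)).2 w
      exact ⟨v, (hbij n j).1 (by simp only; rw [← map_smul]; exact (congrArg _ hv).trans hw)⟩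
    have hinj : ∀ {j : ℤ} {x : (C M fs).X j}, x ∈ Cy _ j → g ∈ (annBd (C M fs) x).radical → x ∈ Bd (C M fs) j := by
      intro j x hx hg
      obtain ⟨n, hn⟩ : f ∈ (annBd (C M fs) x).radical :=
        hff ▸ Ideal.add_mem _ (Ideal.mul_mem_left _ a hg) (hrad hx)
      exact hcancel n ((mem_annBd _).1 hn)
    have hdiv : ∀ {j : ℤ} {x : (C M fs).X j}, x ∈ Cy _ j → ∃ y ∈ Cy (C M fs) j, x - g • y ∈ Bd (C M fs) j := by
      intro j x hx
      obtain ⟨n, hn⟩ := hrad hx
      obtain ⟨T, hT⟩ := sub_dvd_pow_sub_pow f f' n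
      obtain ⟨y, hy⟩ := (hbij n j).2 ((a * T) • x)
      simp only at hy
      have hyc : y ∈ Cy (C M fs) j := (hbij n (j + 1)).1 (a₁ := dd _ j (j + 1) y) (a₂ := 0) (by
        simp only; rw [smul_zero, ← map_smul, hy, map_smul]
        exact (congrArg _ (LinearMap.mem_ker.1 hx)).trans (smul_zero _))
      refine ⟨y, hyc, hcancel n ?_⟩
      rw [smul_sub, smul_comm (f ^ n) g y, hy, ← mul_smul, ← sub_smul,
        show f ^ n - g * (a * T) = f' ^ n by linear_combination hT + T * hff]
      exact (mem_annBd _).1 hn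
    have hdivn : ∀ (n : ℕ) {j : ℤ} {x : (C M fs).X j}, x ∈ Cy _ j → ∃ y ∈ Cy (C M fs) j, x - g ^ n • y ∈ Bd (C M fs) j := by
      intro n
      induction n with
      | zero => exact fun {j x} hx => ⟨x, hx, by simp⟩
      | succ n ihn =>
        intro j x hx
        obtain ⟨y, hy, hy'⟩ := ihn hx
        obtain ⟨y', hy'', hy'''⟩ := hdiv hy
        refine ⟨y', hy'', ?_⟩
        have := add_mem hy' (Submodule.smul_mem _ (g ^ n) hy''')
        rwa [smul_sub, ← mul_smul, ← pow_succ, sub_add_sub_cancel] at this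
    refine (SetLike.ext_iff.1 (Bd_cocone _ φ q) z).2 (acyclic_cocone q
      (fun x b hx he => hinj hx (radical_of_ι (by omega) he)) (fun x hx => ?_)
      ((SetLike.ext_iff.1 (Cy_cocone _ φ q) z).1 hz))
    obtain ⟨n, y, hy, hxy⟩ := exists_cycle_num rfl hx
    obtain ⟨y', hy', w, hw⟩ := hdivn n hy
    obtain ⟨e, he⟩ := (g_bijective g (C M fs) (q + -1 - 1) n).2 (ι g _ _ w)
    simp only at he
    refine ⟨y', e, (mem_Cy _ (by omega)).1 hy', (g_bijective g (C M fs) _ n).1 ?_⟩
    simp only
    rw [hxy, smul_add, ← map_smul, ← map_smul, he, ← ι_dd, hw, map_sub, add_sub_cancel]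

theorem isZero_extCechH_of_mem_span {f : R} (hf : Function.Bijective fun m : M => f • m) (fs : List R)
    (hmem : f ∈ Ideal.span {a : R | a ∈ fs}) (q : ℤ) : IsZero (DerCA.extCechH fs M q) :=
  (isZero_homology_iff _ q).2 (acyclic_of_mem_span M hf fs hmem q)

/-- The inclusion of the module in degree zero. -/
def e0 : ∀ fs : List R, M →ₗ[R] (C M fs).X 0
  | [] => (HomologicalComplex.singleObjXSelf (ComplexShape.up ℤ) 0 M).toLinearEquiv.symm.toLinearMap
  | g :: fs => ((mappingCone.inl (φg g (C M fs))).v 0 (0 + -1) (by omega)).hom ∘ₗ e0 fs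

theorem cA_e0 (g : R) (fs : List R) (h : (0 : ℤ) + -1 + 1 = 0) (m : M) :
    cA (φg g (C M fs)) (0 + -1) 0 h (e0 M (g :: fs) m) = e0 M fs m := by
  rw [cA, e0, LinearMap.comp_apply]
  exact LinearMap.congr_fun (congrArg ModuleCat.Hom.hom (mappingCone.inl_v_fst_v (φg g (C M fs)) 0 (0 + -1) h))
    (e0 M fs m)

theorem loc_eq_zero (g : R) (fs : List R) {q : ℤ} (hq : q < 0) (x : (Lg g (C M fs)).X q) : x = 0 := by
  obtain ⟨n, y, hy⟩ := exists_num g (C M fs) x
  rw [X_range M fs q (Or.inl hq) y, map_zero] at hy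
  exact (g_bijective g (C M fs) q n).1 (hy.trans (smul_zero (g ^ n)).symm)

theorem e0_bijective : ∀ fs : List R, Function.Bijective (e0 M fs)
  | [] => (HomologicalComplex.singleObjXSelf (ComplexShape.up ℤ) 0 M).toLinearEquiv.symm.bijective
  | g :: fs => by
    refine ⟨fun a b e => (e0_bijective fs).1 ?_, fun z => ?_⟩
    · rw [← cA_e0 M g fs (by omega) a, ← cA_e0 M g fs (by omega) b, e]
    · obtain ⟨m, hm⟩ := (e0_bijective fs).2 (cA (φg g (C M fs)) (0 + -1) 0 (by omega) z)
      exact ⟨m, cone_ext (φg g (C M fs)) (show (0 : ℤ) + -1 + 1 = 0 by omega)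
        (by rw [cA_e0]; exact hm) ((loc_eq_zero M g fs (by omega) _).trans (loc_eq_zero M g fs (by omega) _).symm)⟩

theorem mem_Cy_zero_iff : ∀ (fs : List R) (m : M),
    e0 M fs m ∈ Cy (C M fs) 0 ↔ ∀ f ∈ fs, ∃ n : ℕ, f ^ n • m = 0
  | [], m => by
    simp only [List.not_mem_nil, false_imp_iff, implies_true, iff_true]
    rw [Cy, LinearMap.mem_ker]
    exact X_range M [] _ (Or.inr (by simp)) _
  | g :: fs, m => by
    set φ := φg g (C M fs)
    have h : (0 : ℤ) + -1 + 1 = 0 := by omega
    refine (SetLike.ext_iff.1 (Cy_cocone _ φ 0) (e0 M (g :: fs) m)).trans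
      ((mem_Cy_cone φ h (zero_add (1 : ℤ))).trans ?_)
    rw [cA_e0, loc_eq_zero M g fs (by omega) (cB φ _ _), map_zero, add_zero, List.forall_mem_cons,
      ← mem_Cy (C M fs) (zero_add (1 : ℤ)), mem_Cy_zero_iff fs m, and_comm]
    refine and_congr_left' ((ι_eq_zero_iff g (C M fs)).trans (exists_congr fun n => ?_))
    rw [← map_smul]
    exact map_eq_zero_iff _ (e0_bijective M fs).1

theorem mem_torsionSub_span_iff (fs : List R) (m : M) :
    m ∈ DRing.torsionSub (Ideal.span {x : R | x ∈ fs}) M ↔ ∀ f ∈ fs, ∃ n : ℕ, f ^ n • m = 0 := by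
  classical
  constructor
  · rintro ⟨n, hn⟩ f hf
    exact ⟨n, hn _ (Ideal.pow_mem_pow (Ideal.subset_span (s := {x : R | x ∈ fs}) hf) n)⟩
  · intro h
    let J : Ideal R := LinearMap.ker (LinearMap.toSpanSingleton R M m)
    have hfg : (Ideal.span {x : R | x ∈ fs}).FG := ⟨fs.toFinset, by congr 1; ext; simp⟩
    obtain ⟨n, hn⟩ := Ideal.exists_pow_le_of_le_radical_of_fg (J := J)
      (Ideal.span_le.2 fun f hf => (h f hf).imp fun n hn => hn) hfg
    exact ⟨n, fun a ha => hn ha⟩

/-- Degree zero cohomology. -/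
def H0Equiv (fs : List R) :
    DerCA.extCechH fs M 0 ≃ₗ[R] DRing.torsionSub (Ideal.span {x : R | x ∈ fs}) M :=
  let K := C M fs
  have hd : K.d (-1) 0 = 0 := ModuleCat.hom_ext (LinearMap.ext fun x => by
    rw [X_range M fs (-1) (Or.inl (by omega)) x, map_zero, map_zero])
  have : IsIso (K.homologyπ 0) := K.isIso_homologyπ (-1) 0 (by simp) hd
  let e1 : K.cycles 0 ≃ₗ[R] Cy K 0 :=
    LinearEquiv.ofBijective ((K.iCycles 0).hom.codRestrict _ fun z => DMod.d_iCycles 0 (0 + 1) z)
      ⟨fun _ _ e => DMod.iCycles_injective K 0 (congrArg Subtype.val e), fun x => by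
        obtain ⟨z, hz⟩ := DMod.exists_cycle (K := K) (k := 0 + 1) (by simp) x.1 x.2
        exact ⟨z, Subtype.ext hz⟩⟩
  let e2 : DRing.torsionSub (Ideal.span {x : R | x ∈ fs}) M ≃ₗ[R] Cy K 0 :=
    LinearEquiv.ofBijective
      (((e0 M fs).domRestrict _).codRestrict _ fun m =>
        (mem_Cy_zero_iff M fs m.1).2 ((mem_torsionSub_span_iff M fs m.1).1 m.2))
      ⟨fun _ _ e => Subtype.ext ((e0_bijective M fs).1 (congrArg Subtype.val e)), fun x => by
        obtain ⟨m, hm⟩ := (e0_bijective M fs).2 x.1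
        exact ⟨⟨m, (mem_torsionSub_span_iff M fs m).2 ((mem_Cy_zero_iff M fs m).1 (hm ▸ x.2))⟩, Subtype.ext hm⟩⟩
  (asIso (K.homologyπ 0)).symm.toLinearEquiv.trans (e1.trans e2.symm)

end Groth.Agent.ExtCechLib
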