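import Groth.Agent.Lib.ExtCech.Cocone
import Mathlib.RingTheory.Ideal.Span

/-!
# Cohomology of the localisation of a complex and of its cocone
-/

universe u

open CategoryTheory CategoryTheory.Limits CochainComplex

noncomputable section

namespace Groth.Agent.ExtCechLib

variable {R : Type u} [CommRing R] (g : R) (K : DRing.Cx R)

/-- The localised complex. -/
abbrev Lg : DRing.Cx R := (DerCA.locCx (Submonoid.powers g)).obj K

/-- The localisation map. -/
abbrev φg : K ⟶ Lg g K := DerCA.locCxUnit (Submonoid.powers g) K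

/-- The localisation map in degree `i`. -/
abbrev ι (i : ℤ) : K.X i →ₗ[R] (Lg g K).X i := ((φg g K).f i).hom

instance isLocalized (i : ℤ) : IsLocalizedModule (Submonoid.powers g) (ι g K i) :=
  inferInstanceAs (IsLocalizedModule (Submonoid.powers g) (LocalizedModule.mkLinearMap (Submonoid.powers g) (K.X i)))

theorem ι_dd (i j : ℤ) (x : K.X i) : ι g K j (dd K i j x) = dd (Lg g K) i j (ι g K i x) :=
  (LinearMap.congr_fun (congrArg ModuleCat.Hom.hom ((φg g K).comm i j)) x).symm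

theorem g_bijective (i : ℤ) (n : ℕ) : Function.Bijective fun x : (Lg g K).X i => g ^ n • x :=
  ((Module.End.isUnit_iff _).1 (IsLocalizedModule.map_units (ι g K i)
    (⟨g ^ n, n, rfl⟩ : Submonoid.powers g)))

theorem exists_num {i : ℤ} (x : (Lg g K).X i) : ∃ (n : ℕ) (y : K.X i), g ^ n • x = ι g K i y := by
  obtain ⟨⟨y, ⟨s, n, rfl⟩⟩, h⟩ := IsLocalizedModule.surj (Submonoid.powers g) (ι g K i) x
  exact ⟨n, y, h⟩

theorem ι_eq_zero_iff {i : ℤ} {y : K.X i} : ι g K i y = 0 ↔ ∃ n : ℕ, g ^ n • y = 0 := by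
  rw [IsLocalizedModule.eq_zero_iff (Submonoid.powers g) (ι g K i)]
  constructor
  · rintro ⟨⟨s, n, rfl⟩, h⟩
    exact ⟨n, h⟩
  · rintro ⟨n, h⟩
    exact ⟨⟨g ^ n, n, rfl⟩, h⟩

variable {g K}

theorem mem_radical_of_smul {E : DRing.Cx R} {j : ℤ} {s : R} {x : E.X j} {m n : ℕ}
    (h : s ^ m • s ^ n • x ∈ Bd E j) : s ∈ (annBd E x).radical :=
  ⟨m + n, by rw [pow_add, mem_annBd, mul_smul]; exact h⟩

/-- A cocycle of the localisation is a quotient of a cocycle. -/
theorem exists_cycle_num {j k : ℤ} (hk : j + 1 = k) {x : (Lg g K).X j} (hx : dd (Lg g K) j k x = 0) :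
    ∃ (n : ℕ) (y : K.X j), dd K j k y = 0 ∧ g ^ n • x = ι g K j y := by
  obtain ⟨n, y, hy⟩ := exists_num g K x
  have : ι g K k (dd K j k y) = 0 := by rw [ι_dd, ← hy, map_smul, hx, smul_zero]
  obtain ⟨m, hm⟩ := (ι_eq_zero_iff g K).1 this
  exact ⟨m + n, g ^ m • y, by rw [map_smul, hm], by rw [pow_add, mul_smul, hy, map_smul]⟩

/-- A cocycle vanishing in the cohomology of the localisation is killed by a power of `g`. -/
theorem radical_of_ι {i j : ℤ} (hi : i + 1 = j) {a : K.X j} {b : (Lg g K).X i}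
    (h : ι g K j a + dd (Lg g K) i j b = 0) : g ∈ (annBd K a).radical := by
  obtain ⟨n, y, hy⟩ := exists_num g K b
  have : ι g K j (g ^ n • a + dd K i j y) = 0 := by
    rw [map_add, map_smul, ι_dd, ← hy, map_smul, ← smul_add, h, smul_zero]
  obtain ⟨m, hm⟩ := (ι_eq_zero_iff g K).1 this
  refine mem_radical_of_smul (m := m) (n := n) ((mem_Bd K hi).2 ⟨-(g ^ m • y), ?_⟩)
  rw [smul_add, add_eq_zero_iff_eq_neg] at hm
  rw [hm, map_neg, map_smul]

/-- Torsion passes to the localisation. -/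
theorem radical_loc {i j k : ℤ} (hi : i + 1 = j) (hk : j + 1 = k) {s : R}
    (hK : ∀ y : K.X j, dd K j k y = 0 → s ∈ (annBd K y).radical) (x : (Lg g K).X j)
    (hx : dd (Lg g K) j k x = 0) : s ∈ (annBd (Lg g K) x).radical := by
  obtain ⟨n, y, hy, hxy⟩ := exists_cycle_num hk hx
  obtain ⟨m, hm⟩ := hK y hy
  obtain ⟨w, hw⟩ := (mem_Bd K hi).1 ((mem_annBd K).1 hm)
  obtain ⟨v, hv⟩ := (g_bijective g K i n).2 (ι g K i w)
  refine ⟨m, (mem_annBd _).2 <| (mem_Bd _ hi).2 ⟨v, (g_bijective g K j n).1 ?_⟩⟩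
  simp only
  rw [← map_smul, show g ^ n • v = ι g K i w from hv, ← ι_dd, hw, map_smul, ← hxy, smul_comm]

/-- Vanishing passes to the localisation. -/
theorem acyclic_loc {j : ℤ} (hK : Cy K j ≤ Bd K j) : Cy (Lg g K) j ≤ Bd (Lg g K) j := fun x hx => by
  obtain ⟨n, y, hy, hxy⟩ := exists_cycle_num rfl hx
  obtain ⟨w, hw⟩ := hK hy
  obtain ⟨v, hv⟩ := (g_bijective g K (j - 1) n).2 (ι g K _ w)
  refine ⟨v, (g_bijective g K j n).1 ?_⟩
  simp only
  rw [← map_smul, show g ^ n • v = ι g K _ w from hv, ← ι_dd, hw, hxy]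

/-- Torsion of the cohomology of the cocone for scalars torsion on the complex, and for `g`. -/
theorem radical_cocone (s : R) (q : ℤ) (hs : s = g ∨ ((∀ x ∈ Cy K q, s ∈ (annBd K x).radical) ∧
      ∀ x ∈ Cy (Lg g K) (q + -1), s ∈ (annBd (Lg g K) x).radical)) (z : (mappingCone (φg g K)).X (q + -1))
    (hz : z ∈ Cy (mappingCone (φg g K)) (q + -1)) :
    s ∈ (annBd (mappingCone (φg g K)) z).radical := by
  have h : q + -1 + 1 = q := by omega
  have hi : q + -1 - 1 + 1 = q + -1 := by omega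
  obtain ⟨h1, h2⟩ := (mem_Cy_cone (φg g K) h rfl).1 hz
  obtain ⟨n, hn⟩ : s ∈ (annBd K (cA (φg g K) _ _ h z)).radical := by
    rcases hs with rfl | hs
    · exact radical_of_ι h h2
    · exact hs.1 _ h1
  obtain ⟨a', ha'⟩ := (mem_Bd K h).1 ((mem_annBd K).1 hn)
  set b1 := s ^ n • cB (φg g K) _ z + ι g K _ a' with hb1
  have hb1c : dd (Lg g K) (q + -1) q b1 = 0 := by
    rw [hb1, map_add, map_smul, ← ι_dd, ha', map_smul, ← smul_add, add_comm, h2, smul_zero]
  have key : ∃ (m : ℕ) (c : K.X (q + -1)) (e : (Lg g K).X (q + -1 - 1)), dd K (q + -1) q c = 0 ∧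
      s ^ m • b1 = ι g K _ c + dd (Lg g K) (q + -1 - 1) (q + -1) e := by
    rcases hs with rfl | hs
    · obtain ⟨m, y, hy, hby⟩ := exists_cycle_num h hb1c
      exact ⟨m, y, 0, hy, by rw [hby, map_zero, add_zero]⟩
    · obtain ⟨m, hm⟩ := hs.2 b1 ((mem_Cy _ h).2 hb1c)
      obtain ⟨e, he⟩ := (mem_Bd _ hi).1 ((mem_annBd _).1 hm)
      exact ⟨m, 0, e, map_zero _, by rw [map_zero, zero_add, he]⟩
  obtain ⟨m, c, e, hc, he⟩ := key
  refine mem_radical_of_smul (m := m) (n := n) ?_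
  refine mem_Bd_cone (φg g K) hi h (s ^ m • a') (by rw [map_smul, ha', map_smul, map_smul]) c hc e ?_
  rw [map_smul, map_smul, map_smul]
  change s ^ m • s ^ n • cB (φg g K) _ z + s ^ m • ι g K _ a' = _
  rw [← smul_add]
  exact he

theorem acyclic_cocone (q : ℤ) (hinj : ∀ (a : K.X q) (b : (Lg g K).X (q + -1)), a ∈ Cy K q →
      ι g K q a + dd (Lg g K) (q + -1) q b = 0 → a ∈ Bd K q)
    (hsurj : ∀ x ∈ Cy (Lg g K) (q + -1), ∃ (c : K.X (q + -1)) (e : (Lg g K).X (q + -1 - 1)), dd K (q + -1) q c = 0 ∧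
      x = ι g K _ c + dd (Lg g K) (q + -1 - 1) (q + -1) e) :
    Cy (mappingCone (φg g K)) (q + -1) ≤ Bd (mappingCone (φg g K)) (q + -1) := by
  intro z hz
  have h : q + -1 + 1 = q := by omega
  have hi : q + -1 - 1 + 1 = q + -1 := by omega
  obtain ⟨h1, h2⟩ := (mem_Cy_cone (φg g K) h rfl).1 hz
  obtain ⟨a', ha'⟩ := (mem_Bd K h).1 (hinj _ _ h1 h2)
  obtain ⟨c, e, hc, he⟩ := hsurj (cB (φg g K) _ z + ι g K _ a') ((mem_Cy _ h).2 (by
    rw [map_add, ← ι_dd, ha', add_comm]; exact h2))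
  exact mem_Bd_cone (φg g K) hi h a' ha' c hc e he

end Groth.Agent.ExtCechLib
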