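import Groth.Agent.Lib.ExtCech.Funct

/-!
# The extended Čech complex computes local cohomology
-/

universe u

open CategoryTheory CategoryTheory.Limits CochainComplex Groth.Agent.InjHullLib Groth.Agent.LocCohLib

noncomputable section

namespace Groth.Agent.ExtCechLib

variable {R : Type u} [CommRing R]

theorem powTors_eq (J : Ideal R) (M : Type u) [AddCommGroup M] [Module R M] :
    powTors J M = DRing.torsionSub J M :=
  Submodule.ext fun _ => mem_powTors_iff

theorem e0_H0Equiv {M : ModuleCat.{u} R} (fs : List R) (z : (C M fs).cycles 0) :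
    e0 M fs ((H0Equiv M fs ((C M fs).homologyπ 0 z) : DRing.torsionSub (Ideal.span {x : R | x ∈ fs}) M) : M) =
      (C M fs).iCycles 0 z := by
  have : IsIso ((C M fs).homologyπ 0) := (C M fs).isIso_homologyπ (-1) 0 (by simp)
    (ModuleCat.hom_ext (LinearMap.ext fun x => by rw [X_range M fs (-1) (Or.inl (by omega)) x, map_zero, map_zero]))
  unfold H0Equiv
  dsimp only
  rw [LinearEquiv.trans_apply, LinearEquiv.trans_apply]
  rw [show (asIso ((C M fs).homologyπ 0)).symm.toLinearEquiv ((C M fs).homologyπ 0 z) = z from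
    LinearMap.congr_fun (congrArg ModuleCat.Hom.hom (asIso ((C M fs).homologyπ 0)).hom_inv_id) z]
  exact congrArg Subtype.val (LinearEquiv.apply_symm_apply (LinearEquiv.ofBijective
    (((e0 M fs).domRestrict (DRing.torsionSub (Ideal.span {x : R | x ∈ fs}) M)).codRestrict (Cy (C M fs) 0) _) _) _)

theorem H0Equiv_natural {M N : ModuleCat.{u} R} (f : M ⟶ N) (fs : List R) (η : DerCA.extCechH fs M 0) :
    (H0Equiv N fs (HomologicalComplex.homologyMap (Cmap f fs) 0 η) : N) = f.hom (H0Equiv M fs η : M) := by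
  obtain ⟨z, rfl⟩ := DMod.homologyπ_surjective (C M fs) 0 η
  apply (e0_bijective N fs).1
  rw [DMod.homologyMap_π, e0_H0Equiv, DMod.iCycles_cyclesMap, ← e0_H0Equiv fs z]
  exact cm_e0 f fs _

variable [IsNoetherianRing R] {A B Q : Type u} [AddCommGroup A] [Module R A] [AddCommGroup B] [Module R B]
  [AddCommGroup Q] [Module R Q] {f : A →ₗ[R] B} {p : B →ₗ[R] Q}

/-- The short complex of Čech complexes. -/
def cechSeq (hfp : Function.Exact f p) (fs : List R) : ShortComplex (DRing.Cx R) :=
  ShortComplex.mk (Cmap (ModuleCat.ofHom f) fs) (Cmap (ModuleCat.ofHom p) fs)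
    (HomologicalComplex.hom_ext _ _ fun q => ModuleCat.hom_ext (LinearMap.ext fun x =>
      (cm_exact (f := ModuleCat.ofHom f) (p := ModuleCat.ofHom p) hfp fs q _).2 ⟨x, rfl⟩))

omit [IsNoetherianRing R] in
theorem cechSeq_shortExact (hf : Function.Injective f) (hp : Function.Surjective p) (hfp : Function.Exact f p)
    (fs : List R) : (cechSeq hfp fs).ShortExact := by
  refine HomologicalComplex.shortExact_of_degreewise_shortExact _ fun q => ?_
  exact ModuleCat.shortComplex_shortExact _ (cm_exact (f := ModuleCat.ofHom f) (p := ModuleCat.ofHom p) hfp fs q)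
    (cm_injective (f := ModuleCat.ofHom f) hf fs q) (cm_surjective (p := ModuleCat.ofHom p) hp fs q)

/-- Dimension shift in high degree. -/
theorem nonempty_shift (hf : Function.Injective f) (hp : Function.Surjective p) (hfp : Function.Exact f p)
    (hB : Module.Injective R B) (fs : List R) (q : ℤ) (hq : 1 ≤ q) :
    Nonempty (DerCA.extCechH fs (ModuleCat.of R Q) q ≅ DerCA.extCechH fs (ModuleCat.of R A) (q + 1)) :=
  ⟨(cechSeq_shortExact hf hp hfp fs).δIso q (q + 1) rfl
    (isZero_extCechH_of_injective (ModuleCat.of R B) hB fs q hq)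
    (isZero_extCechH_of_injective (ModuleCat.of R B) hB fs (q + 1) (by omega))⟩

/-- Dimension shift into degree one. -/
theorem nonempty_shift_one (hf : Function.Injective f) (hp : Function.Surjective p) (hfp : Function.Exact f p)
    (hB : Module.Injective R B) (fs : List R) :
    Nonempty ((powTors (Ideal.span {x : R | x ∈ fs}) Q ⧸ torsImage (Ideal.span {x : R | x ∈ fs}) p) ≃ₗ[R]
      DerCA.extCechH fs (ModuleCat.of R A) 1) := by
  set J := Ideal.span {x : R | x ∈ fs}
  have hS := cechSeq_shortExact hf hp hfp fs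
  have hB1 : Subsingleton (DerCA.extCechH fs (ModuleCat.of R B) 1) :=
    ModuleCat.subsingleton_of_isZero (isZero_extCechH_of_injective (ModuleCat.of R B) hB fs 1 le_rfl)
  let δ0 : DerCA.extCechH fs (ModuleCat.of R Q) 0 →ₗ[R] DerCA.extCechH fs (ModuleCat.of R A) 1 :=
    (hS.δ 0 1 rfl).hom
  let eQ : powTors J Q ≃ₗ[R] DerCA.extCechH fs (ModuleCat.of R Q) 0 :=
    (LinearEquiv.ofEq _ _ (powTors_eq J Q)).trans (H0Equiv (ModuleCat.of R Q) fs).symm
  let d := δ0 ∘ₗ eQ.toLinearMap
  have hd : Function.Surjective d := fun x => by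
    obtain ⟨y, hy⟩ := ((ShortComplex.ShortExact.moduleCat_exact_iff_function_exact _).1
      (hS.homology_exact₁ 0 1 rfl) x).1 (hB1.elim _ _)
    exact ⟨eQ.symm y, (congrArg δ0 (eQ.apply_symm_apply y)).trans hy⟩
  have hex := (ShortComplex.ShortExact.moduleCat_exact_iff_function_exact _).1 (hS.homology_exact₃ 0 1 rfl)
  have hker : LinearMap.ker d = torsImage J p := by
    ext c
    rw [LinearMap.mem_ker, mem_torsImage]
    constructor
    · intro hc
      obtain ⟨η, hη⟩ := (hex _).1 hc
      refine ⟨(H0Equiv (ModuleCat.of R B) fs η : B), (powTors_eq J B).symm ▸ (H0Equiv (ModuleCat.of R B) fs η).2, ?_⟩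
      refine (H0Equiv_natural (ModuleCat.ofHom p) fs η).symm.trans ?_
      refine (congrArg (fun w => (H0Equiv (ModuleCat.of R Q) fs w : Q)) hη).trans ?_
      exact congrArg Subtype.val ((H0Equiv (ModuleCat.of R Q) fs).apply_symm_apply _)
    · rintro ⟨b, hb, hbc⟩
      refine (hex _).2 ⟨(H0Equiv (ModuleCat.of R B) fs).symm ⟨b, powTors_eq J B ▸ hb⟩, ?_⟩
      apply (H0Equiv (ModuleCat.of R Q) fs).injective
      refine Subtype.ext ((H0Equiv_natural (ModuleCat.ofHom p) fs _).trans ?_)
      refine (congrArg (fun w : DRing.torsionSub J B => p (w : B))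
        ((H0Equiv (ModuleCat.of R B) fs).apply_symm_apply _)).trans (hbc.trans ?_)
      exact (congrArg Subtype.val ((H0Equiv (ModuleCat.of R Q) fs).apply_symm_apply (LinearEquiv.ofEq _ _ (powTors_eq J Q) c))).symm
  exact ⟨(Submodule.quotEquivOfEq _ _ hker.symm).trans (d.quotKerEquivOfSurjective hd)⟩

/-- The extended Čech complex computes local cohomology. -/
theorem nonempty_extCechH_equiv (fs : List R) (i : ℕ) :
    ∀ (M : Type u) [AddCommGroup M] [Module R M],
      Nonempty (DerCA.extCechH fs (ModuleCat.of R M) (i : ℤ) ≃ₗ[R] LocCoh.H (Ideal.span {x : R | x ∈ fs}) i M) := by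
  induction i with
  | zero =>
    intro M _ _
    exact ⟨((H0Equiv (ModuleCat.of R M) fs).trans (LinearEquiv.ofEq _ _ (powTors_eq _ M).symm)).trans
      (zeroEquiv _ M).symm⟩
  | succ i ih =>
    intro M _ _
    obtain ⟨E, _, _, f, hE, hf, hvan⟩ := exists_injective_extension (R := R) M
    have hp : Function.Surjective (LinearMap.range f).mkQ := Submodule.mkQ_surjective _
    have hfp : Function.Exact f (LinearMap.range f).mkQ := LinearMap.exact_map_mkQ_range f
    rcases Nat.eq_zero_or_pos i with rfl | hi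
    · obtain ⟨e1⟩ := nonempty_shift_one hf hp hfp hE fs
      obtain ⟨e2⟩ := nonempty_h1Equiv (Ideal.span {x : R | x ∈ fs}) hf hp hfp (hvan _ 0)
      exact ⟨e1.symm.trans e2⟩
    · obtain ⟨e1⟩ := nonempty_shift hf hp hfp hE fs (i : ℤ) (by omega)
      obtain ⟨e2⟩ := ih (E ⧸ LinearMap.range f)
      obtain ⟨j, rfl⟩ : ∃ j, i = j + 1 := ⟨i - 1, by omega⟩
      exact ⟨(e1.symm.toLinearEquiv.trans e2).trans (δEquiv (Ideal.span {x : R | x ∈ fs}) hf hp hfp (j + 1)
        (hvan _ j) (hvan _ (j + 1)))⟩

end Groth.Agent.ExtCechLib
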