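import Groth.Agent.Lib.ExtCech.Inj
import Groth.Agent.Lib.LocCoh.Seq
import Mathlib.Algebra.Homology.HomologySequence
import Mathlib.Algebra.Homology.HomologicalComplexAbelian
import Mathlib.Algebra.Category.ModuleCat.Abelian

/-!
# The extended Čech complex as an exact functor; comparison with local cohomology
-/

universe u

open CategoryTheory CategoryTheory.Limits CochainComplex

noncomputable section

namespace Groth.Agent.ExtCechLib

variable {R : Type u} [CommRing R] {M N P : ModuleCat.{u} R}

/-- The map of cones induced by a map of complexes. -/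
def coneMap (g : R) {K K' : DRing.Cx R} (a : K ⟶ K') : mappingCone (φg g K) ⟶ mappingCone (φg g K') :=
  mappingCone.map (φg g K) (φg g K') a ((DerCA.locCx (Submonoid.powers g)).map a)
    (by
      ext i x
      exact LinearMap.congr_fun (congrArg ModuleCat.Hom.hom
        ((DerCA.locUnit (Submonoid.powers g)).naturality (a.f i))).symm x)

theorem coneMap_apply (g : R) {K K' : DRing.Cx R} (a : K ⟶ K') (m m' : ℤ) (h : m + 1 = m')
    (z : (mappingCone (φg g K)).X m) :
    cA (φg g K') m m' h (((coneMap g a).f m).hom z) = (a.f m').hom (cA (φg g K) m m' h z) ∧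
      cB (φg g K') m (((coneMap g a).f m).hom z) =
        (((DerCA.locCx (Submonoid.powers g)).map a).f m).hom (cB (φg g K) m z) := by
  have hz : z = cMk (φg g K) m m' h (cA (φg g K) m m' h z) (cB (φg g K) m z) :=
    cone_ext (φg g K) h (by rw [cA_cMk]) (by rw [cB_cMk])
  have i1 : ∀ x, ((coneMap g a).f m).hom (((mappingCone.inl (φg g K)).v m' m (by omega)).hom x) =
      ((mappingCone.inl (φg g K')).v m' m (by omega)).hom ((a.f m').hom x) := fun x => by
    have := LinearMap.congr_fun (congrArg ModuleCat.Hom.hom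
      (show (mappingCone.inl (φg g K)).v m' m (by omega) ≫ (coneMap g a).f m =
        a.f m' ≫ (mappingCone.inl (φg g K')).v m' m (by omega) by simp [coneMap, mappingCone.map])) x
    exact this
  have i2 : ∀ x, ((coneMap g a).f m).hom (((mappingCone.inr (φg g K)).f m).hom x) =
      ((mappingCone.inr (φg g K')).f m).hom ((((DerCA.locCx (Submonoid.powers g)).map a).f m).hom x) := fun x => by
    have := LinearMap.congr_fun (congrArg ModuleCat.Hom.hom
      (show (mappingCone.inr (φg g K)).f m ≫ (coneMap g a).f m = ((DerCA.locCx (Submonoid.powers g)).map a).f m ≫ (mappingCone.inr (φg g K')).f m by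
        simp [coneMap, mappingCone.map])) x
    exact this
  have e1 : ((coneMap g a).f m).hom z = cMk (φg g K') m m' h ((a.f m').hom (cA (φg g K) m m' h z)) ((((DerCA.locCx (Submonoid.powers g)).map a).f m).hom (cB (φg g K) m z)) := by
    conv_lhs => rw [hz]
    rw [cMk, map_add, i1, i2]
    rfl
  rw [e1, cA_cMk, cB_cMk]
  exact ⟨rfl, rfl⟩

/-- Functoriality of the complex. -/
def Cmap (f : M ⟶ N) : ∀ fs : List R, C M fs ⟶ C N fs
  | [] => (HomologicalComplex.single (ModuleCat.{u} R) (ComplexShape.up ℤ) 0).map f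
  | g :: fs => (CategoryTheory.shiftFunctor (CochainComplex (ModuleCat.{u} R) ℤ) (-1 : ℤ)).map (coneMap g (Cmap f fs))

/-- The map in one degree. -/
abbrev cm (f : M ⟶ N) (fs : List R) (q : ℤ) : (C M fs).X q →ₗ[R] (C N fs).X q := ((Cmap f fs).f q).hom

theorem cA_cm (f : M ⟶ N) (g : R) (fs : List R) (q : ℤ) (h : q + -1 + 1 = q) (z : (C M (g :: fs)).X q) :
    cA (φg g (C N fs)) (q + -1) q h (cm f (g :: fs) q z) = cm f fs q (cA (φg g (C M fs)) (q + -1) q h z) :=
  (coneMap_apply g (Cmap f fs) (q + -1) q h z).1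

theorem cB_cm (f : M ⟶ N) (g : R) (fs : List R) (q : ℤ) (z : (C M (g :: fs)).X q) :
    cB (φg g (C N fs)) (q + -1) (cm f (g :: fs) q z) =
      (((DerCA.locCx (Submonoid.powers g)).map (Cmap f fs)).f (q + -1)).hom (cB (φg g (C M fs)) (q + -1) z) :=
  (coneMap_apply g (Cmap f fs) (q + -1) q (by omega) z).2

/-- The localised map. -/
abbrev lm (f : M ⟶ N) (g : R) (fs : List R) (q : ℤ) : (Lg g (C M fs)).X q →ₗ[R] (Lg g (C N fs)).X q :=
  (((DerCA.locCx (Submonoid.powers g)).map (Cmap f fs)).f q).hom

theorem lm_ι (f : M ⟶ N) (g : R) (fs : List R) (q : ℤ) (y : (C M fs).X q) :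
    lm f g fs q (ι g (C M fs) q y) = ι g (C N fs) q (cm f fs q y) :=
  (LinearMap.congr_fun (congrArg ModuleCat.Hom.hom
    ((DerCA.locUnit (Submonoid.powers g)).naturality ((Cmap f fs).f q))) y).symm

theorem cm_e0 (f : M ⟶ N) : ∀ (fs : List R) (m : M), cm f fs 0 (e0 M fs m) = e0 N fs (f.hom m)
  | [], m => by
    change ((((HomologicalComplex.single (ModuleCat.{u} R) (ComplexShape.up ℤ) 0).map f).f 0).hom)
      ((HomologicalComplex.singleObjXSelf (ComplexShape.up ℤ) 0 M).inv.hom m) = _
    rw [← LinearMap.comp_apply, ← ModuleCat.hom_comp, HomologicalComplex.single_map_f_self]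
    simp [e0]
    rfl
  | g :: fs, m => by
    have h : (0 : ℤ) + -1 + 1 = 0 := by omega
    refine cone_ext (φg g (C N fs)) h ?_ ((loc_eq_zero N g fs (by omega) _).trans (loc_eq_zero N g fs (by omega) _).symm)
    refine (cA_cm f g fs 0 h _).trans (Eq.trans ?_ (cA_e0 N g fs h _).symm)
    exact (congrArg (cm f fs 0) (cA_e0 M g fs h m)).trans (cm_e0 f fs m)

variable {f : M ⟶ N} {p : N ⟶ P}

theorem cm_injective (hf : Function.Injective f.hom) : ∀ (fs : List R) (q : ℤ), Function.Injective (cm f fs q)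
  | [], q => by
    by_cases hq : q = 0
    · subst hq
      intro a b e
      obtain ⟨a', rfl⟩ := (e0_bijective M []).2 a
      obtain ⟨b', rfl⟩ := (e0_bijective M []).2 b
      rw [cm_e0, cm_e0] at e
      exact congrArg _ (hf ((e0_bijective N []).1 e))
    · intro a b _
      exact (X_range M [] q (by simp only [List.length_nil, Nat.cast_zero]; omega) a).trans
        (X_range M [] q (by simp only [List.length_nil, Nat.cast_zero]; omega) b).symm
  | g :: fs, q => fun z z' e => by
    have h : q + -1 + 1 = q := by omega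
    refine cone_ext (φg g (C M fs)) h (cm_injective hf fs q
      ((cA_cm f g fs q h z).symm.trans ((congrArg _ e).trans (cA_cm f g fs q h z')))) ?_
    have hl : lm f g fs (q + -1) (cB (φg g (C M fs)) (q + -1) z - cB (φg g (C M fs)) (q + -1) z') = 0 := by
      rw [map_sub, sub_eq_zero]
      exact (cB_cm f g fs q z).symm.trans ((congrArg _ e).trans (cB_cm f g fs q z'))
    obtain ⟨n, y, hy⟩ := exists_num g (C M fs) (cB (φg g (C M fs)) (q + -1) z - cB (φg g (C M fs)) (q + -1) z')
    have : ι g (C N fs) _ (cm f fs _ y) = 0 := by rw [← lm_ι, ← hy, map_smul, hl, smul_zero]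
    obtain ⟨m, hm⟩ := (ι_eq_zero_iff g _).1 this
    rw [← map_smul] at hm
    have hy0 : g ^ m • y = 0 := cm_injective hf fs _ (hm.trans (map_zero _).symm)
    refine sub_eq_zero.1 ((g_bijective g (C M fs) _ (m + n)).1 ?_)
    simp only
    rw [smul_zero, pow_add, mul_smul, hy, ← map_smul, hy0, map_zero]

theorem cm_surjective (hp : Function.Surjective p.hom) : ∀ (fs : List R) (q : ℤ), Function.Surjective (cm p fs q)
  | [], q => by
    intro b
    by_cases hq : q = 0
    · subst hq
      obtain ⟨b', rfl⟩ := (e0_bijective P []).2 b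
      obtain ⟨a, rfl⟩ := hp b'
      exact ⟨e0 N [] a, cm_e0 p [] a⟩
    · exact ⟨0, (map_zero _).trans (X_range P [] q (by simp only [List.length_nil, Nat.cast_zero]; omega) b).symm⟩
  | g :: fs, q => fun z => by
    have h : q + -1 + 1 = q := by omega
    obtain ⟨a, ha⟩ := cm_surjective hp fs q (cA (φg g (C P fs)) _ _ h z)
    obtain ⟨n, y, hy⟩ := exists_num g (C P fs) (cB (φg g (C P fs)) (q + -1) z)
    obtain ⟨y', hy'⟩ := cm_surjective hp fs (q + -1) y
    obtain ⟨b, hb⟩ := (g_bijective g (C N fs) (q + -1) n).2 (ι g _ _ y')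
    simp only at hb
    refine ⟨cMk (φg g (C N fs)) _ _ h a b, cone_ext (φg g (C P fs)) h ?_ ?_⟩
    · exact (cA_cm p g fs q h _).trans (by rw [cA_cMk, ha])
    · refine (cB_cm p g fs q _).trans ((g_bijective g (C P fs) (q + -1) n).1 ?_)
      simp only
      rw [cB_cMk, hy, ← map_smul, hb, ← hy']
      exact lm_ι p g fs _ y'

theorem cm_exact (hfp : Function.Exact f.hom p.hom) : ∀ (fs : List R) (q : ℤ),
    Function.Exact (cm f fs q) (cm p fs q)
  | [], q => by
    intro b
    by_cases hq : q = 0
    · subst hq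
      obtain ⟨b', rfl⟩ := (e0_bijective N []).2 b
      rw [cm_e0, map_eq_zero_iff _ (e0_bijective P []).1, hfp b']
      constructor
      · rintro ⟨a, rfl⟩
        exact ⟨e0 M [] a, cm_e0 f [] a⟩
      · rintro ⟨a, ha⟩
        obtain ⟨a', rfl⟩ := (e0_bijective M []).2 a
        exact ⟨a', (e0_bijective N []).1 ((cm_e0 f [] a').symm.trans ha)⟩
    · have hz : ∀ x : (C N ([] : List R)).X q, x = 0 :=
        X_range N [] q (by simp only [List.length_nil, Nat.cast_zero]; omega)
      exact ⟨fun _ => ⟨0, (map_zero _).trans (hz b).symm⟩, fun _ => by rw [hz b, map_zero]⟩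
  | g :: fs, q => fun z => by
    have h : q + -1 + 1 = q := by omega
    constructor
    · intro hz
      obtain ⟨a, ha⟩ := (cm_exact hfp fs q _).1 ((cA_cm p g fs q h z).symm.trans ((congrArg _ hz).trans (map_zero _)))
      have hl : lm p g fs (q + -1) (cB (φg g (C N fs)) (q + -1) z) = 0 :=
        (cB_cm p g fs q z).symm.trans ((congrArg _ hz).trans (map_zero _))
      obtain ⟨n, y, hy⟩ := exists_num g (C N fs) (cB (φg g (C N fs)) (q + -1) z)
      have : ι g (C P fs) _ (cm p fs _ y) = 0 := by rw [← lm_ι, ← hy, map_smul, hl, smul_zero]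
      obtain ⟨m, hm⟩ := (ι_eq_zero_iff g _).1 this
      obtain ⟨y', hy'⟩ := (cm_exact hfp fs _ (g ^ m • y)).1 ((map_smul _ _ _).trans hm)
      obtain ⟨b, hb⟩ := (g_bijective g (C M fs) (q + -1) (m + n)).2 (ι g _ _ y')
      simp only at hb
      refine ⟨cMk (φg g (C M fs)) _ _ h a b, cone_ext (φg g (C N fs)) h ?_ ?_⟩
      · exact (cA_cm f g fs q h _).trans (by rw [cA_cMk, ha])
      · refine (cB_cm f g fs q _).trans ((g_bijective g (C N fs) (q + -1) (m + n)).1 ?_)
        simp only
        rw [cB_cMk, ← map_smul, hb]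
        refine (lm_ι f g fs _ y').trans ?_
        rw [hy', map_smul, pow_add, mul_smul, hy]
    · rintro ⟨a, rfl⟩
      refine cone_ext (φg g (C P fs)) h ?_ ?_
      · refine (cA_cm p g fs q h _).trans (Eq.trans ?_ (map_zero _).symm)
        exact (congrArg _ (cA_cm f g fs q h a)).trans ((cm_exact hfp fs q _).2 ⟨_, rfl⟩)
      · refine (cB_cm p g fs q _).trans (Eq.trans ?_ (map_zero _).symm)
        refine (congrArg _ (cB_cm f g fs q a)).trans ?_
        obtain ⟨n, y, hy⟩ := exists_num g (C M fs) (cB (φg g (C M fs)) (q + -1) a)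
        apply (g_bijective g (C P fs) (q + -1) n).1
        simp only
        rw [smul_zero, ← map_smul, ← map_smul, hy]
        refine (congrArg _ (lm_ι f g fs _ y)).trans ((lm_ι p g fs _ _).trans ?_)
        rw [(cm_exact hfp fs _ _).2 ⟨y, rfl⟩, map_zero]

end Groth.Agent.ExtCechLib
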