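import Groth.Agent.Lib.ExtCech.Main
import Groth.Agent.Lib.InjHull.Torsion
import Mathlib.Algebra.Module.Injective

/-!
# The extended Čech complex of an injective module
-/

universe u

open CategoryTheory CategoryTheory.Limits CochainComplex

noncomputable section

namespace Groth.Agent.ExtCechLib

variable {R : Type u} [CommRing R] [IsNoetherianRing R] (E : ModuleCat.{u} R)

/-- Dividing by powers in an injective torsion submodule. -/
theorem exists_div (hE : Module.Injective R E) (J : Ideal R) (g : R) (n : ℕ) (m : E)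
    (hm : m ∈ DRing.torsionSub J E) :
    ∃ (M : ℕ) (m' : E), m' ∈ DRing.torsionSub J E ∧ g ^ M • (m - g ^ n • m') = 0 := by
  let K : ℕ →o Ideal R :=
    ⟨fun a => LinearMap.ker (LinearMap.toSpanSingleton R R (g ^ a)), fun a b hab r hr => by
      have hr' : r * g ^ a = 0 := hr
      change r * g ^ b = 0
      rw [← Nat.sub_add_cancel hab, pow_add, mul_left_comm, hr', mul_zero]⟩
  obtain ⟨M, hM⟩ := monotone_stabilizes_iff_noetherian.2 inferInstance K
  let T := InjHullLib.powTors J E
  have hmT : m ∈ T := InjHullLib.mem_powTors_iff.2 hm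
  let f : R →ₗ[R] T := LinearMap.toSpanSingleton R T (g ^ M • ⟨m, hmT⟩)
  have hle : K (M + n) ≤ LinearMap.ker f := fun r hr => by
    rw [← hM (M + n) (Nat.le_add_right M n)] at hr
    change r • g ^ M • (⟨m, hmT⟩ : T) = 0
    rw [← mul_smul, show r * g ^ M = 0 from hr, zero_smul]
  obtain ⟨l, hl⟩ := Module.Injective.extension_property R T
    (R ⧸ K (M + n)) R ((K (M + n)).liftQ (LinearMap.toSpanSingleton R R (g ^ (M + n))) le_rfl)
    (LinearMap.ker_eq_bot.1 (Submodule.ker_liftQ_eq_bot _ _ _ le_rfl))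
    ((K (M + n)).liftQ f hle) (inj := InjHullLib.injective_powTors hE J)
  refine ⟨M, l 1, InjHullLib.mem_powTors_iff.1 (l 1).2, ?_⟩
  have h1 : g ^ (M + n) • l 1 = g ^ M • (⟨m, hmT⟩ : T) := by
    rw [← map_smul, smul_eq_mul, mul_one]
    have := LinearMap.congr_fun hl (Submodule.Quotient.mk (1 : R))
    change l ((1 : R) • g ^ (M + n)) = (1 : R) • (g ^ M • (⟨m, hmT⟩ : T)) at this
    rwa [one_smul, one_smul] at this
  have h2 := congrArg Subtype.val h1
  simp only [SetLike.val_smul] at h2
  rw [smul_sub, ← mul_smul, ← pow_add, h2, sub_self]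

theorem acyclic_of_injective (hE : Module.Injective R E) :
    ∀ (fs : List R) (q : ℤ), 1 ≤ q → Cy (C E fs) q ≤ Bd (C E fs) q
  | [], q, hq => fun x _ => by
    rw [X_range E [] q (Or.inr (by simp only [List.length_nil, Nat.cast_zero]; omega)) x]
    exact Submodule.zero_mem _
  | g :: fs, q, hq => fun z hz => by
    set φ := φg g (C E fs)
    refine (SetLike.ext_iff.1 (Bd_cocone _ φ q) z).2 (acyclic_cocone q
      (fun a b ha _ => acyclic_of_injective hE fs q hq ha) (fun x hx => ?_)
      ((SetLike.ext_iff.1 (Cy_cocone _ φ q) z).1 hz))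
    rcases eq_or_lt_of_le hq with hq1 | hq1
    · subst hq1
      obtain ⟨n, y, hy, hxy⟩ := exists_cycle_num rfl hx
      obtain ⟨m, rfl⟩ : ∃ m, e0 E fs m = y := (e0_bijective E fs).2 y
      have hmJ := (mem_torsionSub_span_iff E fs m).2 ((mem_Cy_zero_iff E fs m).1 hy)
      obtain ⟨M, m', hm'J, he⟩ := exists_div E hE _ g n m hmJ
      refine ⟨e0 E fs m', 0, (mem_Cy_zero_iff E fs m').2 ((mem_torsionSub_span_iff E fs m').1 hm'J), ?_⟩
      rw [map_zero, add_zero]
      apply (g_bijective g (C E fs) _ (M + n)).1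
      simp only
      rw [pow_add, mul_smul, mul_smul, hxy]
      have : g ^ M • (e0 E fs m - g ^ n • e0 E fs m') = 0 := by
        rw [← map_smul, ← map_sub, ← map_smul, he, map_zero]
      refine sub_eq_zero.1 ?_
      rw [← smul_sub, ← map_smul (ι g (C E fs) (1 + -1)) (g ^ n), ← map_sub, ← map_smul, this, map_zero]
    · obtain ⟨e, he⟩ := acyclic_loc (g := g) (acyclic_of_injective hE fs (q + -1) (by omega)) hx
      exact ⟨0, e, map_zero _, by rw [map_zero, zero_add]; exact he.symm⟩

theorem isZero_extCechH_of_injective (hE : Module.Injective R E) (fs : List R) (q : ℤ) (hq : 1 ≤ q) :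
    IsZero (DerCA.extCechH fs E q) :=
  (isZero_homology_iff _ q).2 (acyclic_of_injective E hE fs q hq)

end Groth.Agent.ExtCechLib
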